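import Groth.Agent.ZCorr.K305.NormalIso
import Groth.Agent.Cyc.K305.VBCap

/-!
# Flat pullback along a smooth morphism with a section is injective on Chow groups
-/

set_option autoImplicit false
universe u

open CategoryTheory CategoryTheory.Limits AlgebraicGeometry Opposite TopologicalSpace

namespace K305.SecInj

open Cyc K308.Grp Groth.Agent.CycB Groth.Agent.CycB.DivFun
open Groth.Agent.Vancyc.H120.DefSp Groth.Agent.Vancyc.H691.SpecFib
open K305.VBCap K305.DefW K305.DefOpen K305.NormalIso K305.ConBasis K305.StructCap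

variable {X Y : Scheme.{u}} {δX : X → ℤ} {δY : Y → ℤ} {f : X ⟶ Y} {s : Y ⟶ X} {r : ℕ}
  {R : Type u} [CommRing R] (p : X ⟶ Spec (CommRingCat.of R))

theorem germ_injective {W : Scheme.{u}} (t : Γ(W, ⊤)) (w : W)
    (h : (W.presheaf.germ ⊤ w trivial).hom t ∈ nonZeroDivisors (W.presheaf.stalk w)) :
    Function.Injective (fun a : W.presheaf.stalk w =>
      a • ((Coh.structureModule W).presheaf.germ ⊤ w trivial) (K309.ZeroFun.sec t)) := by
  intro a b hab
  change a • _ = b • _ at hab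
  rw [K309.ZeroFun.germ_sec, smul_smul, smul_smul] at hab
  have h1 := (isGen_one w).1 hab
  exact (mul_cancel_right_mem_nonZeroDivisors h).1 h1

include p in
/-- **Flat pullback along a smooth morphism with a section is injective.** -/
theorem main (hX : IsSetup X δX) (hY : IsSetup Y δY) (hf : DeltaCompat f δX δY)
    [IsClosedImmersion s] (hs : s ≫ f = 𝟙 Y) [SmoothOfRelativeDimension r f] [Flat f]
    (hsh : Shift f δX δY r) {k : ℤ} {α : AlgebraicCycle Y ℤ} (hα : α ∈ Zk Y δY k)
    (h0 : pull hX hY f hsh (cl δY α) = 0) : RatEquivZero δY k α := by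
  -- the deformation space
  let Wd := W s.ker
  let q : Wd ⟶ Y := toX s.ker ≫ f
  have sq : SmoothOfRelativeDimension (r + 1) q := smooth_q hs
  have smq : Smooth q := SmoothOfRelativeDimension.smooth (r + 1) q
  have smf : Smooth f := SmoothOfRelativeDimension.smooth r f
  have flq : Flat q := inferInstance
  have lfq : LocallyOfFiniteType q := inferInstance
  have lfx : LocallyOfFiniteType (toX s.ker) := locallyOfFiniteType_of_comp (toX s.ker) f
  obtain ⟨δW, hδW⟩ := SetupLft.exists_deltaCompat q δY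
  have hWs : IsSetup Wd δW := SetupLft.isSetup_of_deltaCompat q hY hδW
  have hδWX : DeltaCompat (toX s.ker) δW δX := deltaCompat_of_comp' (toX s.ker) f hδW hf
  have shq : Shift q δW δY ((r + 1 : ℕ) : ℤ) :=
    shift_of_hasRelDim (K308.PB.hasRelDim_of_smooth q) hδW
  -- the open part
  let Gd : Wd.Opens := Wd.basicOpen (tau s.ker p)
  let ρ : (Gd : Scheme.{u}) ⟶ X := Gd.ι ≫ toX s.ker
  have sρ : SmoothOfRelativeDimension 1 ρ := smooth_open s.ker p
  have smρ : Smooth ρ := SmoothOfRelativeDimension.smooth 1 ρ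
  have flρ : Flat ρ := inferInstance
  let δG : ↥(Gd : Scheme.{u}) → ℤ := fun x => δW (Gd.ι x)
  have hδG : DeltaCompat Gd.ι δG δW := K930.PushPull.deltaCompat_stalk Gd.ι
  have hGs : IsSetup (Gd : Scheme.{u}) δG := SetupLft.isSetup_of_deltaCompat Gd.ι hWs hδG
  have hδρ : DeltaCompat ρ δG δX := RelDim.deltaCompat_comp hδG hδWX
  have shρ : Shift ρ δG δX ((1 : ℕ) : ℤ) :=
    shift_of_hasRelDim (K308.PB.hasRelDim_of_smooth ρ) hδρ
  have shι : Shift Gd.ι δG δW 0 := shift_open Gd.ι fun _ => rfl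
  have hc : Gd.ι ≫ q = ρ ≫ f := (Category.assoc _ _ _).symm
  have sh1 : Shift (Gd.ι ≫ q) δG δY (0 + ((r + 1 : ℕ) : ℤ)) := shι.comp shq
  have sh2 : Shift (ρ ≫ f) δG δY (0 + ((r + 1 : ℕ) : ℤ)) := by rwa [← hc]
  have e1 : pull hGs hWs Gd.ι shι (pull hWs hY q shq (cl δY α)) = 0 := by
    rw [pull_pull hGs hWs hY Gd.ι q shι shq sh1 rfl,
      K309.Gys.pull_congr hGs hY hc sh1 sh2,
      ← pull_pull hGs hX hY ρ f shρ hsh sh2 (by push_cast; ring), h0, map_zero]
  -- the special fibre
  let D := W0 s p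
  let j : D ⟶ Wd := j0 s p
  obtain ⟨δD, hδD⟩ := SetupLft.exists_deltaCompat j δW
  have hDs : IsSetup D δD := SetupLft.isSetup_of_deltaCompat j hWs hδD
  have hZ := (vanFun s.ker p).isZero
  have hL := K305.StructCap.isInvertible_structureModule Wd
  have e2 : K309.Gys.gys hWs hL hδD hZ (pull hWs hY q shq (cl δY α)) = 0 := by
    refine K309.Gys.gys_of_restrict hWs hδD hZ hGs Gd.ι ?_ shι _ e1
    rw [hZ.1, Scheme.Opens.range_ι]
    ext w
    rw [Set.mem_compl_iff, Set.mem_ofPred_eq, K309.ZeroFun.val_sec_eq_zero_iff]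
    rw [IsLocalRing.mem_maximalIdeal, mem_nonunits_iff, not_not]
    exact Wd.mem_basicOpen_top _ _
  -- the normal bundle
  have hE : FlatMod.IsFinLocFreeOfRank r (Omega.conormal s) := isFinLocFreeOfRank (f := f) hs
  obtain ⟨V⟩ := VB.nonempty hY hE
  obtain ⟨g, hg, hgq⟩ := exists_iso p hs V.sym (f := f) (r := r)
  have hjq : j ≫ q = g ≫ V.A.π := by
    have h1 : ((g ≫ V.A.π) ≫ s) ≫ f = (j0 s p ≫ toX s.ker) ≫ f := by rw [hgq]
    rw [Category.assoc, hs, Category.comp_id, Category.assoc] at h1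
    exact h1.symm
  have flV : Flat V.A.π := V.flat
  have lfV : LocallyOfFiniteType V.A.π := V.lft
  have fljq : Flat (j ≫ q) := by
    rw [hjq]
    infer_instance
  have hδg : DeltaCompat g δD V.δ := by
    refine deltaCompat_of_comp' g V.A.π ?_ V.compat
    rw [← hjq]
    exact RelDim.deltaCompat_comp hδD hδW
  have shg : Shift g δD V.δ 0 := shift_open g (deltaCompat_eq_open g hδg)
  have sh3 : Shift (g ≫ V.A.π) δD δY (0 + (r : ℤ)) := shg.comp V.shift
  have sh4 : Shift (j ≫ q) δD δY (r : ℤ) := by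
    rw [hjq]
    rwa [zero_add] at sh3
  have sh5 : Shift (g ≫ V.A.π) δD δY (r : ℤ) := by rwa [zero_add] at sh3
  have e3 : pull hDs hY (j ≫ q) sh4 (cl δY α) = 0 := by
    rw [← K309.Gys.gys_pull hWs hY hDs hδD hL hZ (by push_cast; ring) shq sh4
      (fun w => germ_injective _ w (germ_mem_nonZeroDivisors s.ker p w)) (cl δY α), e2]
  refine V.pl_cl_injective hα ?_
  apply pull_injective_of_isIso V.setup hDs g hδg shg
  rw [map_zero, VB.pl, pull_pull hDs V.setup hY g V.A.π shg V.shift sh5 (by ring),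
    K309.Gys.pull_congr hDs hY hjq.symm sh5 sh4, e3]

end K305.SecInj
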