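import Groth.Agent.ZCorr.K305.SecChart
import Groth.Agent.KRR.K535.KrConormal
import Groth.Agent.AbSch.K451.DetPic
import Groth.Agent.Sga67.BlowPerf1

/-!
# The conormal module of a section of a smooth morphism
-/

set_option autoImplicit false
universe u

open CategoryTheory CategoryTheory.Limits AlgebraicGeometry Opposite TopologicalSpace

namespace K305.ConBasis

open K305.SecChart Groth.Agent.Sga67.Sec Groth.Agent.Sga67.LocBasis Groth.Agent.Sga67.KosStalk

theorem koszul_X (R : Type u) [CommRing R] (r : ℕ) :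
    LCI.IsKoszulRegularSeq (MvPolynomial (Fin r) R) (List.ofFn MvPolynomial.X) := by
  have h := Groth.Agent.Sga67.BlowPerf.isKoszulRegularSeq_eqs_of_isUnit (n := r) (1 : R) (fun _ => 0)
    isUnit_one
  have h1 : Groth.Agent.Sga67.BlowPerf.eqs (n := r) (1 : R) (fun _ => 0) = List.ofFn MvPolynomial.X := by
    unfold Groth.Agent.Sga67.BlowPerf.eqs
    congr 1
    funext i
    simp
  rwa [h1] at h

variable {X Y : Scheme.{u}} {f : X ⟶ Y} {s : Y ⟶ X} {r : ℕ} (c : Ch f s r)

theorem flat_φ : c.φ.Flat := by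
  have h : Etale (Spec.map (CommRingCat.ofHom c.φ)) := by
    rw [HasRingHomProperty.Spec_iff (P := @Etale)]
    exact c.et
  have h2 : Flat (Spec.map (CommRingCat.ofHom c.φ)) := inferInstance
  exact (HasRingHomProperty.Spec_iff (P := @Flat)).1 h2

theorem koszul : LCI.IsKoszulRegularSeq Γ(X, c.U)
    (List.ofFn fun i => c.φ (MvPolynomial.X i)) := by
  let _ : Algebra (MvPolynomial (Fin r) Γ(Y, c.V)) Γ(X, c.U) := c.φ.toAlgebra
  have : Module.Flat (MvPolynomial (Fin r) Γ(Y, c.V)) Γ(X, c.U) := flat_φ c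
  have h := Groth.Agent.Flat2H.KoszulWrap.isKoszulRegularSeq_map (B := Γ(X, c.U))
    (koszul_X Γ(Y, c.V) r)
  rw [List.map_ofFn] at h
  exact h

/-- The Koszul chart. -/
noncomputable def kc : K535.KrImm.Chart s where
  U := c.U
  hU := c.hU
  l := List.ofFn fun i => c.φ (MvPolynomial.X i)
  hl := koszul c
  hker := by
    rw [c.hI]
    unfold Ideal.ofList
    congr 1
    ext a
    simp

/-- The classes of the coordinates are a local basis of the conormal module. -/
theorem exists_basis [IsClosedImmersion s] : ∃ m : Fin r → Γ(ClSub.idealMod s.ker, c.U),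
    (∀ i, ((ClSub.idealModι s.ker).app c.U (m i) : Γ(X, c.U)) = c.φ (MvPolynomial.X i)) ∧
    IsLocBasis (M := Omega.conormal s) (U := s ⁻¹ᵁ c.U) (fun i =>
      (((Scheme.Modules.pullbackPushforwardAdjunction s).unit.app
        (ClSub.idealMod s.ker)).app c.U (m i) : Γ(Omega.conormal s, s ⁻¹ᵁ c.U))) := by
  have hlen : (kc c).l.length = r := List.length_ofFn
  let e : Fin r ≃ Fin (kc c).l.length := finCongr hlen.symm
  refine ⟨fun i => K535.KrConormal.fI (kc c) (e i), fun i => ?_, ?_⟩
  · have h1 := K535.KrConormal.vl_fI (kc c) (e i)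
    refine Eq.trans h1 ?_
    change (List.ofFn fun i => c.φ (MvPolynomial.X i)).get (e i) = _
    simp [e]
  · exact (K535.KrConormal.isLocBasis_fN (kc c)).reindex e

theorem isFinLocFreeOfRank [IsClosedImmersion s] (hs : s ≫ f = 𝟙 Y)
    [SmoothOfRelativeDimension r f] : FlatMod.IsFinLocFreeOfRank r (Omega.conormal s) := by
  rw [K451.DetPic.rank_iff]
  intro y
  obtain ⟨c, hc⟩ := exists_ch (f := f) (r := r) hs y
  obtain ⟨m, -, hm⟩ := exists_basis c
  exact ⟨s ⁻¹ᵁ c.U, Fin r, inferInstance, _, hc, hm, Fintype.card_fin r⟩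

end K305.ConBasis
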