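import Groth.Agent.ZCorr.K305.DefW
import Groth.Agent.Cyc.K309.ZeroFun

/-!
# The parameter of the deformation to the normal cone

* `smooth_open`: the open where the parameter is invertible is smooth of relative dimension one over `X`;
* `germ_mem_nonZeroDivisors`: the parameter is regular;
* `vanFun`: the fibre at `0` is its zero scheme.
-/

set_option autoImplicit false
universe u

open CategoryTheory CategoryTheory.Limits AlgebraicGeometry Opposite TopologicalSpace
open AlgebraicGeometry.Scheme.AffineZariskiSite AlgebraicGeometry.Scheme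

namespace K305.DefOpen

open LaurentPolynomial
open K305.SecChart K305.ConBasis K305.DefW
open Groth.Agent.Vancyc.H120 Groth.Agent.Vancyc.H120.DefSp Groth.Agent.Vancyc.H120.ReesSch
open Groth.Agent.Vancyc.H120.Rees Groth.Agent.CohqB.RelSpec Groth.Agent.Vancyc.H691.RelSec
open Groth.Agent.Vancyc.H691.SpecFib

variable {X : Scheme.{u}} (J : X.IdealSheafData) {R : Type u} [CommRing R]
  (p : X ⟶ Spec (CommRingCat.of R))

/-- The parameter. -/
noncomputable abbrev tau : Γ(W J, ⊤) := DefSp.fn (tW J p)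

theorem tau_eq : tau J p = (tW J p).appTop.hom ((Scheme.ΓSpecIso _).inv.hom Polynomial.X) := by
  change ((W J).presheaf.map (homOfLE le_top : (⊤ : (W J).Opens) ⟶ ⊤).op).hom _ = _
  exact congr(($((W J).presheaf.map_id (op ⊤))).hom
    ((tW J p).appTop.hom ((Scheme.ΓSpecIso _).inv.hom Polynomial.X)))

theorem chart_preimage (U : X.AffineZariskiSite) :
    (chart J U) ⁻¹ᵁ (W J).basicOpen (tau J p) = PrimeSpectrum.basicOpen (t (idl J U)) := by
  refine (Scheme.preimage_basicOpen _ _).trans ((basicOpen_eq_of_affine' _).trans ?_)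
  refine congrArg PrimeSpectrum.basicOpen ?_
  have h1 : ((chart J U).app ⊤).hom (tau J p) = fnOf (chart J U ≫ tW J p) ⊤ Polynomial.X := by
    rw [← app_fnOf (tW J p) (chart J U) ⊤ ⊤ le_rfl, Scheme.Hom.app_eq_appLE]
    rfl
  refine (congrArg (Scheme.ΓSpecIso _).hom.hom h1).trans ?_
  rw [chart_tW]
  refine (fnOf_Spec _ _).trans ?_
  simp [tRees]

/-- The inclusion of the Rees algebra. -/
noncomputable def sb {B : Type u} [CommRing B] (I : Ideal B) : rees I →+* B[T;T⁻¹] := (rees I).subtype

theorem isOpenImmersion_subtype {B : Type u} [CommRing B] (I : Ideal B) :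
    IsOpenImmersion (Spec.map (CommRingCat.ofHom (sb I))) ∧
      Set.range (Spec.map (CommRingCat.ofHom (sb I))) =
        (PrimeSpectrum.basicOpen (t I) : Set (PrimeSpectrum (rees I))) := by
  let _ : Algebra (rees I) B[T;T⁻¹] := (sb I).toAlgebra
  have hloc : IsLocalization.Away (t I) B[T;T⁻¹] := isLocalization_subtype I
  exact ⟨IsOpenImmersion.of_isLocalization (R := rees I) (S := B[T;T⁻¹]) (t I),
    PrimeSpectrum.localization_away_comap_range B[T;T⁻¹] (t I)⟩

theorem smooth_laurent (B : Type u) [CommRing B] :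
    SmoothOfRelativeDimension 1 (Spec.map (CommRingCat.ofHom (C : B →+* B[T;T⁻¹]))) := by
  have h1 : (C : B →+* B[T;T⁻¹]) = (Polynomial.toLaurent : Polynomial B →+* B[T;T⁻¹]).comp
      Polynomial.C := by
    ext b : 1
    exact (Polynomial.toLaurent_C b).symm
  have h3 : IsOpenImmersion
      (Spec.map (CommRingCat.ofHom (Polynomial.toLaurent : Polynomial B →+* B[T;T⁻¹]))) :=
    IsOpenImmersion.of_isLocalization (R := Polynomial B) (S := B[T;T⁻¹]) Polynomial.X
  have h4 := smooth_polynomial B
  rw [h1, CommRingCat.ofHom_comp, Spec.map_comp]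
  have h5 : SmoothOfRelativeDimension (0 + 1)
    (Spec.map (CommRingCat.ofHom (Polynomial.toLaurent : Polynomial B →+* B[T;T⁻¹])) ≫
      Spec.map (CommRingCat.ofHom (Polynomial.C : B →+* Polynomial B))) := inferInstance
  exact h5

/-- The charts of the open part. -/
noncomputable def gch (U : X.AffineZariskiSite) :
    Spec (CommRingCat.of Γ(X, U.toOpens)[T;T⁻¹]) ⟶ W J :=
  Spec.map (CommRingCat.ofHom (sb (idl J U))) ≫ chart J U

instance (U : X.AffineZariskiSite) : IsOpenImmersion (gch J U) := by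
  have := (isOpenImmersion_subtype (idl J U)).1
  unfold gch
  infer_instance

theorem smooth_gch (U : X.AffineZariskiSite) :
    SmoothOfRelativeDimension (1 + 0) (gch J U ≫ toX J) := by
  have h1 : gch J U ≫ toX J = Spec.map (CommRingCat.ofHom
      (C : Γ(X, U.toOpens) →+* Γ(X, U.toOpens)[T;T⁻¹])) ≫ (isAff U).fromSpec := by
    rw [gch, Category.assoc, chart_toX, ← Category.assoc, ← Spec.map_comp, ← CommRingCat.ofHom_comp]
    rfl
  have h2 := smooth_laurent Γ(X, U.toOpens)
  rw [h1]
  infer_instance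

theorem range_gch_subset (U : X.AffineZariskiSite) :
    Set.range (gch J U) ⊆ Set.range ((W J).basicOpen (tau J p)).ι := by
  rw [Scheme.Opens.range_ι]
  rintro _ ⟨z, rfl⟩
  have h1 : Spec.map (CommRingCat.ofHom (sb (idl J U))) z ∈
      (chart J U) ⁻¹ᵁ (W J).basicOpen (tau J p) := by
    rw [chart_preimage]
    have h2 : Spec.map (CommRingCat.ofHom (sb (idl J U))) z ∈
      Set.range (Spec.map (CommRingCat.ofHom (sb (idl J U)))) := ⟨z, rfl⟩
    rw [(isOpenImmersion_subtype (idl J U)).2] at h2
    exact h2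
  exact h1

/-- The open part is smooth over `X`. -/
theorem smooth_open : SmoothOfRelativeDimension 1 (((W J).basicOpen (tau J p)).ι ≫ toX J) := by
  choose U hU hx using fun x : X => (Opens.isBasis_iff_nbhd.mp X.isBasis_affineOpens)
    (show x ∈ (⊤ : X.Opens) from trivial)
  let G : (W J).Opens := (W J).basicOpen (tau J p)
  let U' : X → X.AffineZariskiSite := fun x => ⟨U x, hU x⟩
  let l : ∀ x : X, Spec (CommRingCat.of Γ(X, (U' x).toOpens)[T;T⁻¹]) ⟶ (G : Scheme.{u}) := fun x =>
    IsOpenImmersion.lift G.ι (gch J (U' x)) (range_gch_subset J p (U' x))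
  have hl : ∀ x, l x ≫ G.ι = gch J (U' x) := fun x => IsOpenImmersion.lift_fac _ _ _
  have hlo : ∀ x, IsOpenImmersion (l x) := fun x => by
    have : IsOpenImmersion (l x ≫ G.ι) := by
      rw [hl]
      infer_instance
    exact IsOpenImmersion.of_comp (l x) G.ι
  let 𝒰 : (G : Scheme.{u}).OpenCover :=
    { I₀ := X
      X := fun x => Spec (CommRingCat.of Γ(X, (U' x).toOpens)[T;T⁻¹])
      f := l
      mem₀ := by
        rw [presieve₀_mem_precoverage_iff]
        refine ⟨fun w => ?_, inferInstance⟩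
        have h1 : G.ι w ∈ toX J ⁻¹ᵁ (U' (toX J (G.ι w))).toOpens := (hx _).1
        rw [preimage_toX] at h1
        obtain ⟨z, hz⟩ := h1
        have h2 : z ∈ (chart J (U' (toX J (G.ι w)))) ⁻¹ᵁ G := by
          change chart J (U' (toX J (G.ι w))) z ∈ G
          rw [hz]
          exact w.2
        rw [chart_preimage] at h2
        have h3 : z ∈ Set.range (Spec.map (CommRingCat.ofHom
            (sb (idl J (U' (toX J (G.ι w))))))) := by
          rw [(isOpenImmersion_subtype (idl J (U' (toX J (G.ι w))))).2]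
          exact h2
        obtain ⟨y, hy⟩ := h3
        refine ⟨toX J (G.ι w), y, ?_⟩
        apply G.ι.isOpenEmbedding.injective
        have h4 : (l (toX J (G.ι w)) ≫ G.ι) y = gch J (U' (toX J (G.ι w))) y := by rw [hl]
        refine h4.trans (Eq.trans ?_ hz)
        rw [← hy]
        rfl }
  rw [IsZariskiLocalAtSource.iff_of_openCover (P := @SmoothOfRelativeDimension 1) 𝒰]
  intro x
  change SmoothOfRelativeDimension 1 (l x ≫ G.ι ≫ toX J)
  rw [← Category.assoc, hl]
  exact smooth_gch J (U' x)

theorem rs_tau (V : (W J).Opens) : Groth.Agent.Vancyc.H691.ConeRho.rs (tau J p) V =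
    fnOf (tW J p) V Polynomial.X :=
  map_fnOf (tW J p) le_top Polynomial.X

/-- The parameter is regular over affine opens. -/
theorem rs_mem_nonZeroDivisors (U : X.AffineZariskiSite) :
    fnOf (tW J p) (toX J ⁻¹ᵁ U.toOpens) Polynomial.X ∈
      nonZeroDivisors Γ(W J, toX J ⁻¹ᵁ U.toOpens) := by
  rw [mem_nonZeroDivisors_iff_right]
  intro y hy
  apply (sec_bijective J U).1
  rw [map_zero]
  have h1 := congrArg (sec J U) hy
  rw [map_mul, map_zero, sec_fn] at h1
  exact (mul_right_mem_nonZeroDivisors_eq_zero_iff (t_mem_nonZeroDivisors _)).1 h1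

/-- The parameter is regular. -/
theorem germ_mem_nonZeroDivisors (w : W J) :
    ((W J).presheaf.germ ⊤ w trivial).hom (tau J p) ∈
      nonZeroDivisors ((W J).presheaf.stalk w) := by
  obtain ⟨U, hU, hx, -⟩ := (Opens.isBasis_iff_nbhd.mp X.isBasis_affineOpens)
    (show toX J w ∈ (⊤ : X.Opens) from trivial)
  let P : (W J).Opens := toX J ⁻¹ᵁ U
  have hP : IsAffineOpen P := hU.preimage (toX J)
  have hw : w ∈ P := hx
  let _ : Algebra Γ(W J, P) ((W J).presheaf.stalk w) := ((W J).presheaf.germ P w hw).hom.toAlgebra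
  have hloc : IsLocalization.AtPrime ((W J).presheaf.stalk w)
    (hP.primeIdealOf ⟨w, hw⟩).asIdeal := hP.isLocalization_stalk ⟨w, hw⟩
  have h1 : algebraMap Γ(W J, P) ((W J).presheaf.stalk w) (fnOf (tW J p) P Polynomial.X) ∈
      nonZeroDivisors ((W J).presheaf.stalk w) :=
    IsLocalization.map_nonZeroDivisors_le (hP.primeIdealOf ⟨w, hw⟩).asIdeal.primeCompl _
      ⟨_, rs_mem_nonZeroDivisors J p ⟨U, hU⟩, rfl⟩
  have h2 : algebraMap Γ(W J, P) ((W J).presheaf.stalk w) (fnOf (tW J p) P Polynomial.X) =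
      ((W J).presheaf.germ ⊤ w trivial).hom (tau J p) := by
    rw [← map_fnOf (tW J p) (le_top : P ≤ ⊤) Polynomial.X]
    exact TopCat.Presheaf.germ_res_apply (W J).presheaf (homOfLE (le_top : P ≤ ⊤)) w hw _
  rwa [h2] at h1

/-- The fibre at zero is the zero scheme of the parameter. -/
theorem vanFun : K309.ZeroFun.VanFun (pullback.fst (tW J p) (pt R 0)) (tau J p) := by
  rw [tau_eq]
  refine (K309.ZeroFun.vanFun_spec (CommRingCat.ofHom (Polynomial.evalRingHom (0 : R)))
    (fun r => ⟨Polynomial.C r, by simp⟩) Polynomial.X ?_).of_isPullback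
      (IsPullback.of_hasPullback (tW J p) (pt R 0))
  ext a
  rw [RingHom.mem_ker, Ideal.mem_span_singleton, Polynomial.X_dvd_iff,
    Polynomial.coeff_zero_eq_eval_zero]
  rfl

end K305.DefOpen
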