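import Groth.Agent.ZCorr.K305.ConBasis
import Groth.Agent.Vancyc.H691.SpecFib

/-!
# The deformation to the normal cone of a section of a smooth morphism is smooth
-/

set_option autoImplicit false
universe u

open CategoryTheory CategoryTheory.Limits AlgebraicGeometry Opposite TopologicalSpace
open AlgebraicGeometry.Scheme.AffineZariskiSite AlgebraicGeometry.Scheme

namespace K305.DefW

open K305.SecChart K305.ConBasis
open Groth.Agent.Vancyc.H120 Groth.Agent.Vancyc.H120.DefSp Groth.Agent.Vancyc.H120.ReesSch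
open Groth.Agent.Vancyc.H120.Rees Groth.Agent.CohqB.RelSpec

theorem smooth_polynomial (A : Type u) [CommRing A] :
    SmoothOfRelativeDimension 1
      (Spec.map (CommRingCat.ofHom (Polynomial.C : A →+* Polynomial A))) := by
  let e : MvPolynomial (Fin 1) A ≃ₐ[A] Polynomial A :=
    MvPolynomial.uniqueAlgEquiv A (Fin 1)
  have h0 := Groth.Agent.FlatB.AffSpaceSmooth.isStandardSmoothOfRelativeDimension A 1
  have h1 : Algebra.IsStandardSmoothOfRelativeDimension 1 A (Polynomial A) :=
    Algebra.IsStandardSmoothOfRelativeDimension.of_algEquiv 1 e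
  have h : (algebraMap A (Polynomial A)).IsStandardSmoothOfRelativeDimension 1 := by
    rw [RingHom.isStandardSmoothOfRelativeDimension_algebraMap]
    exact h1
  change SmoothOfRelativeDimension 1 (Spec.map (CommRingCat.ofHom (algebraMap A (Polynomial A))))
  rw [HasRingHomProperty.Spec_iff (P := @SmoothOfRelativeDimension 1)]
  exact RingHom.locally_of RingHom.isStandardSmoothOfRelativeDimension_respectsIso _ h

variable {X Y : Scheme.{u}} {f : X ⟶ Y} {r : ℕ} (J : X.IdealSheafData)

theorem smooth_chart (U : X.AffineZariskiSite) {V : Y.Opens} (hV : IsAffineOpen V)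
    (e : U.toOpens ≤ f ⁻¹ᵁ V) (h : SmoothOfRelativeDimension r (Spec.map (CommRingCat.ofHom
      (tRees (idl J U) (f.appLE V U.toOpens e).hom)))) :
    SmoothOfRelativeDimension (r + (1 + 0)) (chart J U ≫ toX J ≫ f) := by
  have h1 : chart J U ≫ toX J ≫ f = Spec.map (CommRingCat.ofHom
      (tRees (idl J U) (f.appLE V U.toOpens e).hom)) ≫
      Spec.map (CommRingCat.ofHom (Polynomial.C : Γ(Y, V) →+* Polynomial Γ(Y, V))) ≫
        hV.fromSpec := by
    rw [chart_toX_assoc, ← Category.assoc (Spec.map _) (Spec.map _), ← Spec.map_comp,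
      ← CommRingCat.ofHom_comp]
    have h2 : (tRees (idl J U) (f.appLE V U.toOpens e).hom).comp
        (Polynomial.C : Γ(Y, V) →+* Polynomial Γ(Y, V)) =
          (algebraMap Γ(X, U.toOpens) (rees (idl J U))).comp (f.appLE V U.toOpens e).hom := by
      ext a
      simp [tRees]
    rw [h2, CommRingCat.ofHom_comp, Spec.map_comp, Category.assoc, CommRingCat.ofHom_hom,
      IsAffineOpen.SpecMap_appLE_fromSpec f hV U.2 e]
  have h3 := smooth_polynomial Γ(Y, V)
  rw [h1]
  infer_instance

theorem smooth_appLE [hf : SmoothOfRelativeDimension r f] {V : Y.Opens} (hV : IsAffineOpen V)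
    {U : X.Opens} (hU : IsAffineOpen U) (e : U ≤ f ⁻¹ᵁ V) :
    SmoothOfRelativeDimension r (Spec.map (CommRingCat.ofHom (f.appLE V U e).hom)) := by
  have h := HasRingHomProperty.appLE (P := @SmoothOfRelativeDimension r) f hf ⟨V, hV⟩ ⟨U, hU⟩ e
  exact (HasRingHomProperty.Spec_iff (P := @SmoothOfRelativeDimension r)).2 h

variable {s : Y ⟶ X}

/-- The space has good charts. -/
theorem exists_good [IsClosedImmersion s] (hs : s ≫ f = 𝟙 Y) [SmoothOfRelativeDimension r f]
    (x : X) : ∃ (U : X.AffineZariskiSite) (V : Y.Opens) (_ : IsAffineOpen V)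
      (e : U.toOpens ≤ f ⁻¹ᵁ V), x ∈ U.toOpens ∧
      SmoothOfRelativeDimension r (Spec.map (CommRingCat.ofHom
        (tRees (idl s.ker U) (f.appLE V U.toOpens e).hom))) := by
  by_cases hx : x ∈ Set.range s
  · obtain ⟨y, rfl⟩ := hx
    obtain ⟨c, hc⟩ := exists_ch (f := f) (r := r) hs y
    refine ⟨⟨c.U, c.hU⟩, c.V, c.hV, c.e, hc, ?_⟩
    have h0 : Etale (Spec.map (CommRingCat.ofHom c.φ)) := by
      rw [HasRingHomProperty.Spec_iff (P := @Etale)]
      exact c.et
    have h1 := smooth_rees c.φ (idl s.ker ⟨c.U, c.hU⟩) c.hI 0 inferInstance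
    rw [zero_add, c.hC] at h1
    exact h1
  · have hcl : IsClosed (Set.range s) := s.isClosedEmbedding.isClosed_range
    obtain ⟨_, ⟨V, hV, rfl⟩, hyV, -⟩ :=
      Y.isBasis_affineOpens.exists_subset_of_mem_open (Set.mem_univ (f x)) isOpen_univ
    obtain ⟨_, ⟨U, hU, rfl⟩, hxU, hle⟩ :=
      X.isBasis_affineOpens.exists_subset_of_mem_open
        (show x ∈ (Set.range s)ᶜ ∩ (f ⁻¹ᵁ V : Set X) from ⟨hx, hyV⟩)
        (hcl.isOpen_compl.inter (f ⁻¹ᵁ V).isOpen)
    replace hV : IsAffineOpen V := hV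
    replace hU : IsAffineOpen U := hU
    have e : U ≤ f ⁻¹ᵁ V := fun z hz => (hle hz).2
    refine ⟨⟨U, hU⟩, V, hV, e, hxU, smooth_rees_top _ r _ ?_ (smooth_appLE hV hU e)⟩
    have h1 : s ⁻¹ᵁ U = ⊥ := by
      rw [eq_bot_iff]
      intro y hy
      exact ((hle hy).1 ⟨y, rfl⟩).elim
    change s.ker.ideal ⟨U, hU⟩ = ⊤
    rw [Scheme.Hom.ker_apply, eq_top_iff]
    intro a _
    have h2 : Subsingleton Γ(Y, s ⁻¹ᵁ U) := by
      rw [h1]
      infer_instance
    exact Subsingleton.elim _ _

/-- A cover of `W` by charts. -/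
theorem iff_of_charts {P : MorphismProperty Scheme.{u}} [IsZariskiLocalAtSource P]
    (U : X → X.AffineZariskiSite) (hU : ∀ x, x ∈ (U x).toOpens) {T : Scheme.{u}} (g : W J ⟶ T)
    (h : ∀ x, P (chart J (U x) ≫ g)) : P g := by
  let 𝒰 : (W J).OpenCover :=
    { I₀ := X
      X := fun x => Spec (CommRingCat.of (rees (idl J (U x))))
      f := fun x => chart J (U x)
      mem₀ := by
        rw [presieve₀_mem_precoverage_iff]
        refine ⟨fun w => ?_, inferInstance⟩
        have : w ∈ toX J ⁻¹ᵁ (U ((toX J).base w)).toOpens := hU _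
        rw [preimage_toX] at this
        obtain ⟨y, hy⟩ := this
        exact ⟨_, y, hy⟩ }
  rw [IsZariskiLocalAtSource.iff_of_openCover (P := P) 𝒰]
  exact h

/-- `W ⟶ Y` is smooth. -/
theorem smooth_q [IsClosedImmersion s] (hs : s ≫ f = 𝟙 Y) [SmoothOfRelativeDimension r f] :
    SmoothOfRelativeDimension (r + 1) (toX s.ker ≫ f) := by
  choose U V hV e hx h using exists_good (f := f) (r := r) hs
  refine iff_of_charts s.ker U hx _ fun x => ?_
  exact smooth_chart s.ker (U x) (hV x) (e x) (h x)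

end K305.DefW
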