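import Groth.Agent.Vancyc.H120.ReesSch

/-!
# The extended Rees algebra modulo the parameter

For `φ : R[x] → B` flat with `I = (φ x_j)`, `σ : B → S` surjective with kernel `I`, `Θ : rees I → T` surjective with
kernel generated by `t`: the map `S[u] → T`, `u_j ↦ Θ (x_j / t)`, is bijective.
-/

set_option autoImplicit false
universe u v w

open LaurentPolynomial CategoryTheory CategoryTheory.Limits

namespace K305.ReesMod

open Groth.Agent.Vancyc.H120 Groth.Agent.Vancyc.H120.Rees Groth.Agent.Vancyc.H120.ReesFlat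
open Groth.Agent.Vancyc.H120.ReesSch

variable {R : Type u} [CommRing R] {ι : Type} {B : Type u} [CommRing B]
  (φ : MvPolynomial ι R →+* B) (I : Ideal B)
  (hI : I = Ideal.span (Set.range fun i => φ (MvPolynomial.X i)))
  {S : Type u} [CommRing S] (σ : B →+* S) (hσ : RingHom.ker σ = I)

include hI hσ in
/-- The retraction `rees I → S[u]`. -/
theorem exists_retr (hφ : φ.Flat) : ∃ ε : rees I →+* MvPolynomial ι S,
    (∀ b, ε (algebraMap B (rees I) b) = MvPolynomial.C (σ b)) ∧ ε (t I) = 0 ∧
    ∀ i (h : φ (MvPolynomial.X i) ∈ I), ε (u I _ h) = MvPolynomial.X i := by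
  have hp := isPushout φ I hI hφ
  let f1 : B →+* MvPolynomial ι S := MvPolynomial.C.comp σ
  let c2 : R →+* MvPolynomial ι S := MvPolynomial.C.comp (σ.comp (φ.comp MvPolynomial.C))
  let g2 : Option ι → MvPolynomial ι S := fun o => o.elim 0 MvPolynomial.X
  let f2 : MvPolynomial (Option ι) R →+* MvPolynomial ι S := MvPolynomial.eval₂Hom c2 g2
  have f2C : ∀ r, f2 (MvPolynomial.C r) = c2 r := fun r => MvPolynomial.eval₂Hom_C c2 g2 r
  have f2X : ∀ o, f2 (MvPolynomial.X o) = g2 o := fun o => MvPolynomial.eval₂Hom_X' c2 g2 o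
  have hw : CommRingCat.ofHom φ ≫ CommRingCat.ofHom f1 =
      CommRingCat.ofHom (mulMap R ι : MvPolynomial ι R →+* MvPolynomial (Option ι) R) ≫
        CommRingCat.ofHom f2 := by
    apply CommRingCat.hom_ext
    apply MvPolynomial.ringHom_ext
    · intro r
      change f1 (φ (MvPolynomial.C r)) = f2 (mulMap R ι (MvPolynomial.C r))
      have h1 : mulMap R ι (MvPolynomial.C (σ := ι) r) = (MvPolynomial.C r : MvPolynomial (Option ι) R) :=
        (mulMap R ι).commutes r
      rw [h1, f2C]
      rfl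
    · intro i
      change f1 (φ (MvPolynomial.X i)) = f2 (mulMap R ι (MvPolynomial.X i))
      have h1 : σ (φ (MvPolynomial.X i)) = 0 := by
        rw [← RingHom.mem_ker, hσ]
        exact mem_of_eq hI i
      have h2 : f2 (MvPolynomial.X none) = 0 := f2X none
      rw [mulMap_X, map_mul, h2, zero_mul]
      change MvPolynomial.C (σ (φ (MvPolynomial.X i))) = 0
      rw [h1, map_zero]
  let ε : CommRingCat.of (rees I) ⟶ CommRingCat.of (MvPolynomial ι S) := hp.desc _ _ hw
  have e1 : CommRingCat.ofHom (algebraMap B (rees I)) ≫ ε = CommRingCat.ofHom f1 := hp.inl_desc _ _ hw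
  have e2 : CommRingCat.ofHom (toRees φ I (mem_of_eq hI)) ≫ ε = CommRingCat.ofHom f2 :=
    hp.inr_desc _ _ hw
  refine ⟨ε.hom, fun b => congr(($e1).hom b), ?_, fun i h => ?_⟩
  · have := congr(($e2).hom (MvPolynomial.X none))
    change ε.hom (toRees φ I (mem_of_eq hI) (MvPolynomial.X none)) = f2 (MvPolynomial.X none) at this
    rw [toRees_none] at this
    rw [this]
    exact f2X none
  · have := congr(($e2).hom (MvPolynomial.X (some i)))
    change ε.hom (toRees φ I (mem_of_eq hI) (MvPolynomial.X (some i))) =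
      f2 (MvPolynomial.X (some i)) at this
    rw [toRees_some] at this
    rw [this]
    exact f2X (some i)

include hI hσ in
theorem bijective (hφ : φ.Flat) (hσs : Function.Surjective σ) {T : Type u} [CommRing T]
    (Θ : rees I →+* T) (hΘs : Function.Surjective Θ) (hΘ : RingHom.ker Θ = Ideal.span {t I})
    (Ψ : MvPolynomial ι S →+* T)
    (h1 : ∀ b, Ψ (MvPolynomial.C (σ b)) = Θ (algebraMap B (rees I) b))
    (h2 : ∀ i, Ψ (MvPolynomial.X i) = Θ (u I _ (mem_of_eq hI i))) : Function.Bijective Ψ := by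
  obtain ⟨ε, e1, e2, e3⟩ := exists_retr φ I hI σ hσ hφ
  have ht : Θ (t I) = 0 := by
    rw [← RingHom.mem_ker, hΘ]
    exact Ideal.subset_span rfl
  constructor
  · -- a retraction
    have hle : RingHom.ker Θ ≤ RingHom.ker ε := by
      rw [hΘ, Ideal.span_singleton_le_iff_mem, RingHom.mem_ker]
      exact e2
    let ε' : T →+* MvPolynomial ι S := RingHom.liftOfRightInverse Θ _
      (Function.rightInverse_surjInv hΘs) ⟨ε, hle⟩
    have hε' : ∀ z, ε' (Θ z) = ε z := fun z =>
      RingHom.liftOfRightInverse_comp_apply Θ _ (Function.rightInverse_surjInv hΘs) ⟨ε, hle⟩ z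
    have key : ε'.comp Ψ = RingHom.id _ := by
      apply MvPolynomial.ringHom_ext
      · intro a
        obtain ⟨b, rfl⟩ := hσs a
        rw [RingHom.comp_apply, h1, hε', e1]
        rfl
      · intro i
        rw [RingHom.comp_apply, h2, hε', e3]
        rfl
    exact Function.LeftInverse.injective (g := ε') fun P => congr($key P)
  · intro z
    obtain ⟨p, rfl⟩ := hΘs z
    let A : Subring B[T;T⁻¹] := (Ψ.range.comap Θ).map (rees I).subtype
    have hA : ∀ q : rees I, Θ q ∈ Ψ.range → (q : B[T;T⁻¹]) ∈ A := fun q hq => ⟨q, hq, rfl⟩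
    have hp : (p : B[T;T⁻¹]) ∈ A := by
      refine rees_le (Set.range fun i => φ (MvPolynomial.X i)) hI A ?_ ?_ ?_ p.2
      · intro b
        exact hA (algebraMap B (rees I) b) ⟨_, h1 b⟩
      · exact hA (t I) ⟨0, by rw [ht, map_zero]⟩
      · rintro _ ⟨i, rfl⟩
        exact hA (u I _ (mem_of_eq hI i)) ⟨_, h2 i⟩
    obtain ⟨q, hq, hqp⟩ := hp
    have : q = p := Subtype.ext hqp
    rw [← this]
    exact hq

end K305.ReesMod
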