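import Groth.Agent.ZCorr.K305.NormalMap
import Groth.Agent.ZCorr.K305.ReesMod

/-!
# The special fibre of the deformation to the normal cone of a section is the normal bundle
-/

set_option autoImplicit false
universe u

open CategoryTheory CategoryTheory.Limits AlgebraicGeometry Opposite TopologicalSpace
open AlgebraicGeometry.Scheme.AffineZariskiSite AlgebraicGeometry.Scheme

namespace K305.NormalIso

section Basis

open Groth.Agent.Fdesc.LocGen K36.QSpec K36.SymAlg K305.VBPt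
open Groth.Agent.Sga67.Sec Groth.Agent.Sga67.LocBasis

variable {S : Scheme.{u}} {A : RelSpec.QCAlg S} {E : S.Modules} {j : E ⟶ A.toModule}
  {T : Scheme.{u}} {f : T ⟶ S} {r : ℕ}

theorem bijective_fn (hE : Coh.IsQCoh E) (hA : RelSpec.IsSymAlg E A j) (g : T ⟶ A.spec)
    (hf : g ≫ A.π = f) (U : S.Opens) (hU : IsAffineOpen U) (b : Fin r → Γ(E, U))
    (hb : IsLocBasis (M := E) (U := U) b)
    (Ψ : MvPolynomial (Fin r) Γ(S, U) →+* Γ(T, f ⁻¹ᵁ U)) (hΨ : Function.Bijective Ψ)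
    (hC : ∀ a, Ψ (MvPolynomial.C a) = (f.app U).hom a)
    (hX : ∀ i, Ψ (MvPolynomial.X i) = fn g hf U (jApp E A j U (b i))) :
    Function.Bijective (fn g hf U) := by
  let B : Module.Basis (Fin r) Γ(S, U) Γ(E, U) := hb.basis le_rfl
  have hB : ∀ i, B i = b i := by
    intro i
    refine (IsLocBasis.basis_apply hb le_rfl i).trans ?_
    exact res_self _ _ _
  let e := SymmetricAlgebra.equivMvPolynomial B
  have h1 : Ψ = ((fn g hf U).hom.comp (symHom E A j U)).comp e.symm.toRingEquiv.toRingHom := by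
    apply MvPolynomial.ringHom_ext
    · intro a
      rw [hC]
      change _ = fn g hf U (symHom E A j U (e.symm (algebraMap _ _ a)))
      rw [AlgEquiv.commutes, symHom_algebraMap, str_fn]
    · intro i
      rw [hX]
      change _ = fn g hf U (symHom E A j U (e.symm (MvPolynomial.X i)))
      rw [SymmetricAlgebra.equivMvPolynomial_symm_X, symHom_ι, hB]
  have h2 := bijective_symHom hE hA U hU
  rw [h1] at hΨ
  have h3 : Function.Bijective (((fn g hf U).hom ∘ (symHom E A j U)) ∘ e.symm) := hΨ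
  have h4 : Function.Bijective ((fn g hf U).hom ∘ (symHom E A j U)) :=
    (Function.Bijective.of_comp_iff _ e.symm.bijective).1 h3
  exact (Function.Bijective.of_comp_iff _ h2).1 h4

/-- A morphism to `A.spec` is an isomorphism if it is so on functions over an affine cover. -/
theorem isIso_of_bijective (g : T ⟶ A.spec) (hf : g ≫ A.π = f) [IsAffineHom f]
    (H : ∀ x : S, ∃ (U : S.Opens) (_ : IsAffineOpen U), x ∈ U ∧ Function.Bijective (fn g hf U)) :
    IsIso g := by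
  subst hf
  have : IsAffineHom g := IsAffineHom.of_comp g A.π
  choose U hU hx hb using H
  have key := (IsZariskiLocalAtTarget.iff_of_iSup_eq_top
    (P := MorphismProperty.isomorphisms Scheme.{u}) (f := g) (fun x : S => A.π ⁻¹ᵁ U x) (by
      ext z
      simp only [Opens.coe_iSup, Set.mem_iUnion, Opens.coe_top, Set.mem_univ, iff_true]
      exact ⟨A.π z, hx _⟩)).mpr
  apply key
  intro x
  refine (isIso_morphismRestrict_iff_isIso_app g ((hU x).preimage A.π)).mpr ?_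
  have h1 : IsIso (fn g rfl (U x)) := (ConcreteCategory.isIso_iff_bijective _).2 (hb x)
  have h2 := isIso_gammaAff A (U x) (hU x)
  have h3 : IsIso (thetaApp A (U x)) := by
    have h4 := thetaApp_gammaAff A (U x) (hU x)
    have h5 : IsIso (thetaApp A (U x) ≫ A.gammaAff (U x) (hU x)) := by
      rw [h4]
      infer_instance
    exact IsIso.of_isIso_comp_right _ (A.gammaAff (U x) (hU x))
  have h4 : fn g rfl (U x) = thetaApp A (U x) ≫ g.app (A.π ⁻¹ᵁ U x) := by
    rw [fn, Scheme.Hom.app_eq_appLE]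
    rfl
  have h6 : IsIso (thetaApp A (U x) ≫ g.app (A.π ⁻¹ᵁ U x)) := h4 ▸ h1
  exact IsIso.of_isIso_comp_left (thetaApp A (U x)) _

end Basis

section Main

open Groth.Agent.Fdesc.LocGen K36.QSpec K36.SymAlg K305.VBPt
open Groth.Agent.Sga67.LocBasis
open Groth.Agent.CohqB.AlgSys
open Groth.Agent.Vancyc.H120 Groth.Agent.Vancyc.H120.DefSp Groth.Agent.Vancyc.H120.ReesSch
open Groth.Agent.Vancyc.H691.RelSec Groth.Agent.Vancyc.H691.SpecFib
open K305.DefOpen K305.NormalMap K305.SecChart K305.ConBasis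

theorem appLE_props {X Y : Scheme.{u}} (f : X ⟶ Y) {U : Y.Opens} {V : X.Opens} (e : V ≤ f ⁻¹ᵁ U)
    (h : V = f ⁻¹ᵁ U) : (Function.Surjective (f.app U) → Function.Surjective (f.appLE U V e).hom) ∧
      RingHom.ker (f.appLE U V e).hom = RingHom.ker (f.app U).hom := by
  subst h
  rw [← Scheme.Hom.app_eq_appLE]
  exact ⟨fun h => h, rfl⟩

variable {X Y : Scheme.{u}} {f : X ⟶ Y} {s : Y ⟶ X} [IsClosedImmersion s] {r : ℕ} {R : Type u}
  [CommRing R] (p : X ⟶ Spec (CommRingCat.of R))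

/-- **The special fibre of the deformation to the normal cone of a section of a smooth morphism is
the normal bundle.** -/
theorem exists_iso (hs : s ≫ f = 𝟙 Y) [SmoothOfRelativeDimension r f] {A : RelSpec.QCAlg Y}
    {j : Omega.conormal s ⟶ A.toModule} (hA : RelSpec.IsSymAlg (Omega.conormal s) A j) :
    ∃ g : W0 s p ⟶ A.spec, IsIso g ∧ (g ≫ A.π) ≫ s = j0 s p ≫ toX s.ker := by
  have hN : Coh.IsQCoh (Omega.conormal s) :=
    K451.DetPic.isQCoh_of_rank (isFinLocFreeOfRank (f := f) (r := r) hs)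
  obtain ⟨h, haff, hh, l, hl, hres, hval⟩ := exists_lin s p hN
  obtain ⟨g, hg, hgl⟩ := exists_pt hN hA h l hl hres
  refine ⟨g, isIso_of_bijective g hg fun y => ?_, by rw [hg, hh]⟩
  obtain ⟨c, hc⟩ := exists_ch (f := f) (r := r) hs y
  obtain ⟨m, hm, hb⟩ := exists_basis c
  have hV : IsAffineOpen (s ⁻¹ᵁ c.U) := c.hU.preimage s
  refine ⟨s ⁻¹ᵁ c.U, hV, hc, ?_⟩
  let U' : X.AffineZariskiSite := ⟨c.U, c.hU⟩
  have hle : h ⁻¹ᵁ (s ⁻¹ᵁ c.U) ≤ j0 s p ⁻¹ᵁ (toX s.ker ⁻¹ᵁ c.U) :=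
    le_preimage (h ≫ s) (toX s.ker) (j0 s p) hh.symm c.U
  have heq : h ⁻¹ᵁ (s ⁻¹ᵁ c.U) = j0 s p ⁻¹ᵁ (toX s.ker ⁻¹ᵁ c.U) := by
    change (h ≫ s) ⁻¹ᵁ c.U = (j0 s p ≫ toX s.ker) ⁻¹ᵁ c.U
    rw [hh]
  obtain ⟨hsur, hker⟩ := appLE_props (j0 s p) hle heq
  let eW : Γ(W s.ker, toX s.ker ⁻¹ᵁ c.U) ≃+* Rees.rees (idl s.ker U') :=
    RingEquiv.ofBijective (sec s.ker U') (sec_bijective s.ker U')
  let jm : Γ(W s.ker, toX s.ker ⁻¹ᵁ c.U) →+* Γ(W0 s p, h ⁻¹ᵁ (s ⁻¹ᵁ c.U)) :=
    ((j0 s p).appLE _ _ hle).hom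
  let Θ : Rees.rees (idl s.ker U') →+* Γ(W0 s p, h ⁻¹ᵁ (s ⁻¹ᵁ c.U)) :=
    jm.comp eW.symm.toRingHom
  have hΘ : ∀ y, Θ (sec s.ker U' y) = jm y := fun y => congrArg jm (eW.symm_apply_apply y)
  let Ψ : MvPolynomial (Fin r) Γ(Y, s ⁻¹ᵁ c.U) →+* Γ(W0 s p, h ⁻¹ᵁ (s ⁻¹ᵁ c.U)) :=
    MvPolynomial.eval₂Hom (h.app (s ⁻¹ᵁ c.U)).hom fun i => l _
      (((Scheme.Modules.pullbackPushforwardAdjunction s).unit.app
        (ClSub.idealMod s.ker)).app c.U (m i))
  have hΨC : ∀ a, Ψ (MvPolynomial.C a) = (h.app (s ⁻¹ᵁ c.U)).hom a := fun a =>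
    MvPolynomial.eval₂Hom_C _ _ _
  have hΨX : ∀ i, Ψ (MvPolynomial.X i) = l _
      (((Scheme.Modules.pullbackPushforwardAdjunction s).unit.app
        (ClSub.idealMod s.ker)).app c.U (m i)) := fun i => MvPolynomial.eval₂Hom_X' _ _ _
  refine bijective_fn hN hA g hg (s ⁻¹ᵁ c.U) hV _ hb Ψ ?_ hΨC fun i => ?_
  · refine K305.ReesMod.bijective c.φ (idl s.ker U') c.hI (s.app c.U).hom
      (Scheme.Hom.ker_apply s ⟨c.U, c.hU⟩).symm (flat_φ c) (s.app_surjective c.U c.hU) Θ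
      ?_ ?_ Ψ ?_ ?_
    · exact (hsur ((j0 s p).app_surjective _ (c.hU.preimage (toX s.ker)))).comp
        eW.symm.surjective
    · have h1 : RingHom.ker Θ = (RingHom.ker jm).map eW.toRingHom := by
        ext z
        rw [Ideal.mem_map_iff_of_surjective eW.toRingHom eW.surjective]
        constructor
        · intro hz
          exact ⟨eW.symm z, hz, eW.apply_symm_apply z⟩
        · rintro ⟨w, hw, rfl⟩
          exact (hΘ w).trans hw
      have h2 : RingHom.ker jm = Ideal.span {fnOf (tW s.ker p) (toX s.ker ⁻¹ᵁ c.U)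
          Polynomial.X} := hker.trans (ker_j0 s p U')
      rw [h1, h2, Ideal.map_span, Set.image_singleton]
      congr 2
      exact sec_fn s.ker p U'
    · intro b
      rw [hΨC]
      have h1 := hΘ (((toX s.ker).app c.U).hom b)
      rw [sec_app s.ker U' b] at h1
      rw [h1]
      have h2 := appLE_app (h ≫ s) (toX s.ker) (j0 s p) hh.symm c.U b
      refine Eq.trans ?_ h2.symm
      rw [Scheme.Hom.comp_app]
      rfl
    · intro i
      rw [hΨX]
      obtain ⟨y, hy, hly⟩ := hval c.U (m i) hle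
      rw [hly]
      have hmem : c.φ (MvPolynomial.X i) ∈ idl s.ker U' := mem_of_eq c.hI i
      have h1 := sec_eq s p U' (c.φ (MvPolynomial.X i)) hmem y (by rw [← hm i]; exact hy)
      rw [← h1, hΘ]
  · rw [hΨX]
    exact (hgl (s ⁻¹ᵁ c.U) hV _).symm

end Main

end K305.NormalIso
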