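import Groth.Agent.ZCorr.K305.DefOpen
import Groth.Agent.RegImm.K559.Basic
import Groth.Agent.Cyc.K305.VBPt

/-!
# The special fibre of the deformation to the normal cone maps to the normal bundle

`exists_map`: the map from the fibre at zero `W0` to `V(conormal s)` over `Y`, with its functions.
-/

set_option autoImplicit false
universe u

open CategoryTheory CategoryTheory.Limits AlgebraicGeometry Opposite TopologicalSpace
open AlgebraicGeometry.Scheme.AffineZariskiSite AlgebraicGeometry.Scheme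

namespace K305.NormalMap

open Groth.Agent.CohqB.AlgSys Groth.Agent.CohqB.AlgMod
open Groth.Agent.Vancyc.H120 Groth.Agent.Vancyc.H120.DefSp Groth.Agent.Vancyc.H120.ReesSch
open Groth.Agent.Vancyc.H691.RelSec Groth.Agent.Vancyc.H691.Cone Groth.Agent.Vancyc.H691.ConeRho
open Groth.Agent.Vancyc.H691.SpecFib K305.DefOpen

variable {X Y : Scheme.{u}} (s : Y ⟶ X) {R : Type u} [CommRing R]
  (p : X ⟶ Spec (CommRingCat.of R))

theorem isReg : IsReg (toX s.ker) (tau s.ker p) := by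
  intro U hU y hy
  rw [rs_tau] at hy
  exact (mul_left_mem_nonZeroDivisors_eq_zero_iff
    (rs_mem_nonZeroDivisors s.ker p ⟨U, hU⟩)).1 hy

theorem sec_eq (U : X.AffineZariskiSite) (a : Γ(X, U.toOpens)) (ha : a ∈ idl s.ker U)
    (y : Γ(W s.ker, toX s.ker ⁻¹ᵁ U.toOpens))
    (h : fnOf (tW s.ker p) (toX s.ker ⁻¹ᵁ U.toOpens) Polynomial.X * y =
      ((toX s.ker).app U.toOpens).hom a) : sec s.ker U y = Rees.u _ a ha := by
  have h1 := congrArg (sec s.ker U) h
  rw [map_mul, sec_fn, sec_app, ← Rees.t_mul_u _ a ha] at h1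
  exact (mul_cancel_left_mem_nonZeroDivisors (Rees.t_mem_nonZeroDivisors _)).1 h1

theorem div : Div (toX s.ker) (tau s.ker p) s.ker := by
  intro U a ha
  let U' : X.AffineZariskiSite := ⟨U.1, U.2⟩
  obtain ⟨y, hy⟩ := (sec_bijective s.ker U').2 (Rees.u (idl s.ker U') a ha)
  refine ⟨y, (sec_bijective s.ker U').1 ?_⟩
  rw [rs_tau]
  refine (map_mul (sec s.ker U') _ _).trans ?_
  rw [sec_fn s.ker p U', hy, Rees.t_mul_u]
  exact (sec_app s.ker U' a).symm

theorem ker_spec_app {A K : CommRingCat.{u}} (φ : A ⟶ K) (a : A)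
    (ha : RingHom.ker φ.hom = Ideal.span {a}) :
    RingHom.ker ((Spec.map φ).app ⊤).hom = Ideal.span {(Scheme.ΓSpecIso A).inv.hom a} := by
  ext b
  have h1 : (Scheme.ΓSpecIso K).hom ((Spec.map φ).appTop b) =
      φ ((Scheme.ΓSpecIso A).hom b) :=
    ConcreteCategory.congr_hom (Scheme.ΓSpecIso_naturality φ) b
  have h2 : (Scheme.ΓSpecIso K).hom ((Spec.map φ).appTop b) = 0 ↔ (Spec.map φ).appTop b = 0 :=
    map_eq_zero_iff (Scheme.ΓSpecIso K).hom.hom
      (ConcreteCategory.bijective_of_isIso (Scheme.ΓSpecIso K).hom).1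
  have h3 : φ ((Scheme.ΓSpecIso A).hom b) = 0 ↔
      (Scheme.ΓSpecIso A).hom b ∈ Ideal.span {a} := by
    rw [← ha]; exact (RingHom.mem_ker).symm
  rw [RingHom.mem_ker]
  refine h2.symm.trans ?_
  rw [h1, h3, Ideal.mem_span_singleton, Ideal.mem_span_singleton]
  constructor
  · rintro ⟨c, hc⟩
    refine ⟨(Scheme.ΓSpecIso A).inv c, ?_⟩
    refine Eq.trans ?_ (map_mul (Scheme.ΓSpecIso A).inv.hom a c)
    rw [← hc]
    exact (ConcreteCategory.congr_hom (Scheme.ΓSpecIso A).hom_inv_id b).symm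
  · rintro ⟨c, hc⟩
    refine ⟨(Scheme.ΓSpecIso A).hom c, ?_⟩
    rw [hc, map_mul]
    congr 1
    exact ConcreteCategory.congr_hom (Scheme.ΓSpecIso A).inv_hom_id a

theorem ker_eval (R : Type u) [CommRing R] :
    RingHom.ker (CommRingCat.ofHom (Polynomial.evalRingHom (0 : R))).hom =
      Ideal.span {(Polynomial.X : Polynomial R)} := by
  ext a
  rw [RingHom.mem_ker, Ideal.mem_span_singleton, Polynomial.X_dvd_iff,
    Polynomial.coeff_zero_eq_eval_zero]
  rfl

/-- The kernel of the restriction to the special fibre. -/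
theorem ker_j0 (U : X.AffineZariskiSite) :
    RingHom.ker ((j0 s p).app (toX s.ker ⁻¹ᵁ U.toOpens)).hom =
      Ideal.span {fnOf (tW s.ker p) (toX s.ker ⁻¹ᵁ U.toOpens) Polynomial.X} := by
  have h1 := K559.Basic.ker_app_of_isPullback
    (IsPullback.of_hasPullback (tW s.ker p) (pt R 0)).flip (isAffineOpen_top _)
    ((show IsAffineOpen U.toOpens from U.2).preimage (toX s.ker)) le_top inferInstance
  refine h1.trans ?_
  rw [ker_spec_app _ _ (ker_eval R), Ideal.map_span, Set.image_singleton]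
  rfl

theorem exists_lin [IsClosedImmersion s]
    (hN : Coh.IsQCoh (Omega.conormal s)) :
    ∃ (h : W0 s p ⟶ Y) (_ : IsAffineHom h) (_ : h ≫ s = j0 s p ≫ toX s.ker)
      (l : ∀ V : Y.Opens, Γ(Omega.conormal s, V) →+ Γ(W0 s p, h ⁻¹ᵁ V)),
      (∀ V r e, l V (r • e) = h.app V r * l V e) ∧
      (∀ {V V' : Y.Opens} (hle : V' ≤ V) (e : Γ(Omega.conormal s, V)),
        l V' (Groth.Agent.Fdesc.LocGen.res _ hle e) =
          (W0 s p).presheaf.map (homOfLE (h.preimage_mono hle)).op (l V e)) ∧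
      ∀ (U : X.Opens) (m : Γ(ClSub.idealMod s.ker, U))
        (hle : h ⁻¹ᵁ (s ⁻¹ᵁ U) ≤ j0 s p ⁻¹ᵁ (toX s.ker ⁻¹ᵁ U)),
        ∃ y : Γ(W s.ker, toX s.ker ⁻¹ᵁ U),
          fnOf (tW s.ker p) (toX s.ker ⁻¹ᵁ U) Polynomial.X * y = ((toX s.ker).app U).hom
            ((ClSub.idealModι s.ker).app U m : Γ(X, U)) ∧
          l (s ⁻¹ᵁ U) (((Scheme.Modules.pullbackPushforwardAdjunction s).unit.app
            (ClSub.idealMod s.ker)).app U m) =
              ((j0 s p).appLE (toX s.ker ⁻¹ᵁ U) (h ⁻¹ᵁ (s ⁻¹ᵁ U)) hle).hom y := by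
  obtain ⟨h, haff, hh, -, -⟩ := exists_isPullback s p hN
  let ρ' : ClSub.idealMod s.ker ⟶ Oalg (h ≫ s) :=
    rho (isReg s p) (div s p) ≫ Omap (h ≫ s) (toX s.ker) (j0 s p) hh.symm
  let ρ : Omega.conormal s ⟶ Oalg h := adj s h ρ'
  refine ⟨h, haff, hh, fun V => (toFun h V).toAddMonoidHom.comp (ρ.app V).hom, ?_, ?_, ?_⟩
  · intro V r e
    have h1 : ρ.app V (r • e) = r • ρ.app V e := Scheme.Modules.Hom.app_smul ρ r e
    change toFun h V (ρ.app V (r • e)) = _
    rw [h1, toFun_smul]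
    rfl
  · intro V V' hle e
    have h1 := Groth.Agent.Fdesc.LocGen.app_res ρ hle e
    change toFun h V' (ρ.app V' _) = _
    rw [h1]
    rfl
  · intro U m hle
    refine ⟨toFun (toX s.ker) U ((rho (isReg s p) (div s p)).app U m), ?_, ?_⟩
    · rw [← rs_tau]
      exact mul_rho (isReg s p) (div s p) U m
    · exact adj_unit s h ρ' U m

end K305.NormalMap
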