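import Groth.Agent.Sga4B.SmoothPair

/-!
# Charts with étale coordinates for a section of a smooth morphism
-/

set_option autoImplicit false
universe u

open CategoryTheory CategoryTheory.Limits AlgebraicGeometry Opposite TopologicalSpace

namespace K305.SecChart

variable {X Y : Scheme.{u}} (f : X ⟶ Y) (s : Y ⟶ X) (r : ℕ)

/-- Charts of a section with étale coordinates. -/
structure Ch where
  V : Y.Opens
  hV : IsAffineOpen V
  U : X.Opens
  hU : IsAffineOpen U
  e : U ≤ f ⁻¹ᵁ V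
  φ : MvPolynomial (Fin r) Γ(Y, V) →+* Γ(X, U)
  et : φ.Etale
  hC : φ.comp MvPolynomial.C = (f.appLE V U e).hom
  hI : s.ker.ideal ⟨U, hU⟩ = Ideal.span (Set.range fun i => φ (MvPolynomial.X i))

variable {f s r}

/-- A section of a smooth morphism has charts. -/
theorem exists_ch [IsClosedImmersion s] (hs : s ≫ f = 𝟙 Y) [hf : SmoothOfRelativeDimension r f]
    (y : Y) : ∃ c : Ch f s r, s y ∈ c.U := by
  obtain ⟨_, ⟨V, hV, rfl⟩, hyV, -⟩ :=
    Y.isBasis_affineOpens.exists_subset_of_mem_open (Set.mem_univ (f (s y))) isOpen_univ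
  obtain ⟨_, ⟨U, hU, rfl⟩, hyU, hUV⟩ :=
    X.isBasis_affineOpens.exists_subset_of_mem_open (show s y ∈ (f ⁻¹ᵁ V : Set X) from hyV)
      (f ⁻¹ᵁ V).isOpen
  replace hV : IsAffineOpen V := hV
  replace hU : IsAffineOpen U := hU
  replace hUV : U ≤ f ⁻¹ᵁ V := hUV
  have h0 : SmoothOfRelativeDimension (0 + r) f := by rwa [zero_add]
  have h1 : SmoothOfRelativeDimension 0 (s ≫ f) := by rw [hs]; infer_instance
  obtain ⟨g, φ, hg, hφ, hφC, hφJ⟩ := Groth.Agent.Sga4B.SmoothPair.exists_chart_zariski f s 0 r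
    h0 h1 y hV hU hyU hUV
  have hle : X.basicOpen g ≤ U := X.basicOpen_le g
  let _ : Algebra Γ(X, U) Γ(X, X.basicOpen g) := (X.presheaf.map (homOfLE hle).op).hom.toAlgebra
  have hloc : IsLocalization.Away g Γ(X, X.basicOpen g) := hU.isLocalization_basicOpen g
  let θ : Localization.Away g ≃ₐ[Γ(X, U)] Γ(X, X.basicOpen g) :=
    IsLocalization.algEquiv (Submonoid.powers g) _ _
  have hθ : ∀ a : Γ(X, U), θ (algebraMap _ _ a) = (X.presheaf.map (homOfLE hle).op).hom a :=
    fun a => θ.commutes a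
  let κ : MvPolynomial (Fin r) Γ(Y, V) ≃+* MvPolynomial (Fin r) (MvPolynomial (Fin 0) Γ(Y, V)) :=
    MvPolynomial.mapEquiv (Fin r) (MvPolynomial.isEmptyRingEquiv Γ(Y, V) (Fin 0)).symm
  have hκC : ∀ a, κ (MvPolynomial.C a) = MvPolynomial.C (MvPolynomial.C a) := by
    intro a
    simp [κ]
  have hκX : ∀ i, κ (MvPolynomial.X i) = MvPolynomial.X i := by
    intro i
    simp [κ]
  refine ⟨⟨V, hV, X.basicOpen g, hU.basicOpen g, hle.trans hUV,
    (θ.toRingEquiv.toRingHom.comp φ).comp κ.toRingHom, ?_, ?_, ?_⟩, hg⟩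
  · refine RingHom.Etale.stableUnderComposition _ _ (RingHom.Etale.of_bijective κ.bijective) ?_
    exact RingHom.Etale.stableUnderComposition _ _ hφ (RingHom.Etale.of_bijective θ.bijective)
  · refine RingHom.ext fun a => ?_
    have h2 := congr($hφC a)
    change φ (MvPolynomial.C (MvPolynomial.C a)) = algebraMap _ _ ((f.appLE V U hUV).hom a) at h2
    change θ (φ (κ (MvPolynomial.C a))) = _
    rw [hκC, h2, hθ, ← Scheme.Hom.appLE_map f hUV (homOfLE hle).op]
    rfl
  · have h3 := s.ker.map_ideal (U := ⟨X.basicOpen g, hU.basicOpen g⟩) (V := ⟨U, hU⟩) hle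
    have h4 : s.ker.ideal ⟨U, hU⟩ = RingHom.ker (s.app U).hom := Scheme.Hom.ker_apply s ⟨U, hU⟩
    rw [← h3, h4]
    have h5 : (RingHom.ker (s.app U).hom).map (X.presheaf.map (homOfLE hle).op).hom =
        ((RingHom.ker (s.app U).hom).map (algebraMap Γ(X, U) (Localization.Away g))).map
          θ.toRingEquiv.toRingHom := by
      rw [Ideal.map_map]
      congr 1
      exact RingHom.ext fun a => (hθ a).symm
    refine h5.trans ?_
    rw [hφJ, Ideal.map_span, ← Set.range_comp]
    congr 2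
    funext i
    change θ (φ (MvPolynomial.X i)) = θ (φ (κ (MvPolynomial.X i)))
    rw [hκX]

end K305.SecChart
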